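import Mathlib
import Cfsg.Agent.Lib.Helper10.BWDefs

/-!
# S0997 case B2 (project BW of helper10), piece BW-SING (helper52)

Every element of order divisible by `p` is conjugate into `P`.
-/

set_option autoImplicit false
set_option linter.style.haveILetI false

namespace Cfsg.Agent.Lib.Helper10.BW

open Cfsg
open Cfsg.Agent.Lib.Helper83 (trivIrr)
open Cfsg.Agent.Lib.Helper10.BR (psum)
open scoped ComplexConjugate

universe u

variable {G : Type u} [Group G] [Fintype G]

/-- pure group theory behind `sing` -/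
theorem sing_aux (p e b : ℕ) (hp : p.Prime) (hpe : p = 2 * e + 1) (he2 : 2 ≤ e)
    (P : Subgroup G) (cardP : Nat.card P = p)
    (cent : Subgroup.centralizer (P : Set G) = P)
    (cardG : Nat.card G = p * 2 ^ b * (e + 1)) (g : G) (hg : p ∣ orderOf g) :
    ∃ k : G, k * g * k⁻¹ ∈ P := by
  haveI : Fact p.Prime := ⟨hp⟩
  -- `p ^ 2` does not divide `|G|`
  have hp2 : ¬ p ^ 2 ∣ Nat.card G := by
    rw [cardG, pow_two, mul_assoc]
    intro hd
    have h1 : p ∣ 2 ^ b * (e + 1) := (Nat.mul_dvd_mul_iff_left hp.pos).1 hd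
    rcases (Nat.Prime.dvd_mul hp).1 h1 with h2 | h2
    · have h3 : p ∣ 2 := hp.dvd_of_dvd_pow h2
      have h4 : p ≤ 2 := Nat.le_of_dvd (by norm_num) h3
      omega
    · have h4 : p ≤ e + 1 := Nat.le_of_dvd (by omega) h2
      omega
  -- every Sylow `p`-subgroup has order dividing `p`
  have hsyl : ∀ Q : Sylow p G, Nat.card Q ≤ p := by
    intro Q
    obtain ⟨n, hn⟩ := IsPGroup.iff_card.1 Q.2
    have hdvd : Nat.card Q ∣ Nat.card G := Subgroup.card_subgroup_dvd_card (Q : Subgroup G)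
    rw [hn] at hdvd ⊢
    have hn1 : n ≤ 1 := by
      by_contra hcon
      exact hp2 ((pow_dvd_pow p (by omega : 2 ≤ n)).trans hdvd)
    calc p ^ n ≤ p ^ 1 := Nat.pow_le_pow_right hp.pos hn1
      _ = p := pow_one p
  -- `P` is a Sylow subgroup
  have hPp : IsPGroup p P := IsPGroup.of_card (n := 1) (by rw [cardP, pow_one])
  obtain ⟨Q, hPQ⟩ := hPp.exists_le_sylow
  have hPQeq : P = (Q : Subgroup G) :=
    Subgroup.eq_of_le_of_card_ge hPQ (by rw [cardP]; exact hsyl Q)
  -- the element `z` of order `p`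
  have hz : orderOf (g ^ (orderOf g / p)) = p :=
    orderOf_pow_orderOf_div (orderOf_pos g).ne' hg
  have hzp : IsPGroup p (Subgroup.zpowers (g ^ (orderOf g / p))) :=
    IsPGroup.of_card (n := 1) (by rw [Nat.card_zpowers, hz, pow_one])
  obtain ⟨Q', hzQ'⟩ := hzp.exists_le_sylow
  obtain ⟨k, hk⟩ := MulAction.exists_smul_eq G Q' Q
  have hzmem : g ^ (orderOf g / p) ∈ (Q' : Subgroup G) :=
    hzQ' (Subgroup.mem_zpowers _)
  have hwP : k * g ^ (orderOf g / p) * k⁻¹ ∈ P := by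
    rw [hPQeq, ← hk, Sylow.coe_subgroup_smul]
    have := Subgroup.smul_mem_pointwise_smul _ (MulAut.conj k) (Q' : Subgroup G) hzmem
    rwa [MulAut.smul_def, MulAut.conj_apply] at this
  have hz1 : g ^ (orderOf g / p) ≠ 1 := by
    intro h1
    rw [h1, orderOf_one] at hz
    exact hp.one_lt.ne hz
  have hw1 : k * g ^ (orderOf g / p) * k⁻¹ ≠ 1 := by
    intro h1
    apply hz1
    have : g ^ (orderOf g / p) = k⁻¹ * (k * g ^ (orderOf g / p) * k⁻¹) * k := by group
    rw [this, h1]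
    group
  refine ⟨k, ?_⟩
  rw [← cent, Subgroup.mem_centralizer_iff]
  intro u hu
  -- `u` is a power of `w`
  have hmem : (⟨u, hu⟩ : P) ∈ Subgroup.zpowers (⟨k * g ^ (orderOf g / p) * k⁻¹, hwP⟩ : P) :=
    mem_zpowers_of_prime_card cardP (fun h1 => hw1 (congrArg Subtype.val h1))
  obtain ⟨n, hn⟩ := Subgroup.mem_zpowers_iff.1 hmem
  have hu' : u = (k * g ^ (orderOf g / p) * k⁻¹) ^ n := by
    have := congrArg Subtype.val hn
    rw [Subgroup.coe_zpow] at this
    exact this.symm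
  have hcomm : Commute (k * g ^ (orderOf g / p) * k⁻¹) (k * g * k⁻¹) := by
    have h1 : Commute (g ^ (orderOf g / p)) g := (Commute.refl g).pow_left _
    show k * g ^ (orderOf g / p) * k⁻¹ * (k * g * k⁻¹) = k * g * k⁻¹ * (k * g ^ (orderOf g / p) * k⁻¹)
    calc k * g ^ (orderOf g / p) * k⁻¹ * (k * g * k⁻¹)
        = k * (g ^ (orderOf g / p) * g) * k⁻¹ := by group
      _ = k * (g * g ^ (orderOf g / p)) * k⁻¹ := by rw [h1.eq]
      _ = k * g * k⁻¹ * (k * g ^ (orderOf g / p) * k⁻¹) := by group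
  rw [hu']
  exact (hcomm.zpow_left n).eq

variable {p e : ℕ} {P : Subgroup G} {θ θ' : IrrCharacter G}
  {Xp Xm D : Finset (IrrCharacter G)}

/-- BW-SING -/
theorem sing (h : VTab G p e P θ θ' Xp Xm D) (g : G) (hg : p ∣ orderOf g) :
    ∃ k : G, k * g * k⁻¹ ∈ P := by
  obtain ⟨b, hb⟩ := h.cardG
  exact sing_aux p e b h.hp h.hpe h.he2 P h.cardP h.cent hb g hg

end Cfsg.Agent.Lib.Helper10.BW
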